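import Groth.Agent.Wt.SectionStrat
import Groth.Agent.LimLib.ResField
import Groth.Agent.LimLib.Basic
import Groth.Agent.LimTop.Descend

/-!
# Completely decomposed morphisms and limits
-/

universe u

open CategoryTheory Limits AlgebraicGeometry Topology

namespace Groth.Agent.CDLim

variable {X Y : Scheme.{u}}

theorem bijective_of_retraction_aux (f : X ⟶ Y) (y : Y) (x₀ : X)
    (φ : X.residueField x₀ ⟶ Y.residueField y)
    (h : Spec.map φ ≫ X.fromSpecResidueField x₀ ≫ f = Y.fromSpecResidueField y) :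
    f x₀ = y ∧ Function.Bijective (f.residueFieldMap x₀) := by
  have hy : f x₀ = y := by
    have := congr($(h) (IsLocalRing.closedPoint (Y.residueField y)))
    simpa using this
  subst hy
  refine ⟨rfl, ?_⟩
  rw [← Scheme.Hom.SpecMap_residueFieldMap_fromSpecResidueField, ← Spec.map_comp_assoc] at h
  have h' : Spec.map (f.residueFieldMap x₀ ≫ φ) = Spec.map (𝟙 _) := by
    rw [← cancel_mono (Y.fromSpecResidueField (f x₀)), h, Spec.map_id, Category.id_comp]
  have h'' : ∀ a, φ (f.residueFieldMap x₀ a) = a := fun a =>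
    congr($(Spec.map_injective h') a)
  refine ⟨(f.residueFieldMap x₀).hom.injective, fun b => ⟨φ b, φ.hom.injective ?_⟩⟩
  exact h'' _

/-- A rational point of a fibre gives a point with the same residue field. -/
theorem exists_bijective_of_section (f : X ⟶ Y) (y : Y) (x : Spec (Y.residueField y) ⟶ X)
    (h : x ≫ f = Y.fromSpecResidueField y) :
    ∃ x₀ : X, f x₀ = y ∧ Function.Bijective (f.residueFieldMap x₀) := by
  obtain ⟨x₀, φ, hφ⟩ : ∃ (x₀ : X) (φ : X.residueField x₀ ⟶ Y.residueField y),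
      Spec.map φ ≫ X.fromSpecResidueField x₀ = x :=
    ⟨_, _, X.descResidueField_stalkClosedPointTo_fromSpecResidueField (Y.residueField y) x⟩
  refine ⟨x₀, bijective_of_retraction_aux f y x₀ φ ?_⟩
  rw [← Category.assoc, hφ]
  exact h

theorem exists_section_of_bijective (f : X ⟶ Y) (x₀ : X)
    (h : Function.Bijective (f.residueFieldMap x₀)) :
    ∃ x : Spec (Y.residueField (f x₀)) ⟶ X, x ≫ f = Y.fromSpecResidueField (f x₀) := by
  have : IsIso (f.residueFieldMap x₀) := (ConcreteCategory.isIso_iff_bijective _).2 h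
  refine ⟨Spec.map (inv (f.residueFieldMap x₀)) ≫ X.fromSpecResidueField x₀, ?_⟩
  rw [Category.assoc, ← Scheme.Hom.SpecMap_residueFieldMap_fromSpecResidueField,
    ← Spec.map_comp_assoc, IsIso.hom_inv_id, Spec.map_id, Category.id_comp]

theorem residueFieldMap_bijective_of_isPreimmersion (f : X ⟶ Y) [IsPreimmersion f] (x : X) :
    Function.Bijective (f.residueFieldMap x) := by
  refine ⟨(f.residueFieldMap x).hom.injective, fun b => ?_⟩
  obtain ⟨t, rfl⟩ := X.residue_surjective x b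
  obtain ⟨s, rfl⟩ := f.stalkMap_surjective x t
  exact ⟨Y.residue (f x) s, congr($(Scheme.residue_residueFieldMap f x) s)⟩

theorem range_residueFieldMap_mono {A B C : Scheme.{u}} (a : A ⟶ B) (b : B ⟶ C) (c : A ⟶ C)
    (h : a ≫ b = c) (s : A) :
    Set.range (c.residueFieldMap s) ⊆ Set.range (a.residueFieldMap s) := by
  subst h
  rintro _ ⟨t, rfl⟩
  rw [Scheme.residueFieldMap_comp]
  exact ⟨b.residueFieldMap (a s) t, rfl⟩

variable {I : Type u} [SmallCategory I] [IsCofiltered I] {D : I ⥤ Scheme.{u}} {c : Cone D}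
variable [∀ (i j : I) (f : i ⟶ j), IsAffineHom (D.map f)]

/-- A rational point over a point of the limit comes from a stage. -/
theorem exists_stage_point (hc : IsLimit c) {i : I} {X₀ : Scheme.{u}} (f₀ : X₀ ⟶ D.obj i)
    [LocallyOfFiniteType f₀] (s : c.pt) (x : Spec (c.pt.residueField s) ⟶ X₀)
    (hx : x ≫ f₀ = c.pt.fromSpecResidueField s ≫ c.π.app i) :
    ∃ (k : I) (ψ : k ⟶ i) (xk : Spec ((D.obj k).residueField (c.π.app k s)) ⟶ X₀),
      xk ≫ f₀ = (D.obj k).fromSpecResidueField (c.π.app k s) ≫ D.map ψ := by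
  classical
  let p := x (IsLocalRing.closedPoint _)
  have hp : f₀ p = c.π.app i s := by
    show (x ≫ f₀) _ = _
    rw [hx]
    simp
  obtain ⟨V, hV, hpV, -⟩ :=
    exists_isAffineOpen_mem_and_subset (show f₀ p ∈ (⊤ : (D.obj i).Opens) from trivial)
  obtain ⟨W, hW, hpW, hWV⟩ := exists_isAffineOpen_mem_and_subset (show p ∈ f₀ ⁻¹ᵁ V from hpV)
  let θ := f₀.appLE V W hWV
  have hθ : θ.hom.FiniteType := f₀.finiteType_appLE hV hW hWV
  have hxr : Set.range x ⊆ Set.range hW.fromSpec := by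
    rintro _ ⟨a, rfl⟩
    rw [hW.range_fromSpec, Subsingleton.elim a (IsLocalRing.closedPoint _)]
    exact hpW
  let χ : Γ(X₀, W) ⟶ c.pt.residueField s := Spec.preimage (IsOpenImmersion.lift hW.fromSpec x hxr)
  have hχ : Spec.map χ ≫ hW.fromSpec = x := by
    rw [Spec.map_preimage, IsOpenImmersion.lift_fac]
  obtain ⟨T, hT⟩ : ∃ T : Finset Γ(X₀, W), ∀ (R : Subring Γ(X₀, W)),
      (∀ a, θ a ∈ R) → (∀ t ∈ T, t ∈ R) → R = ⊤ := by
    letI := θ.hom.toAlgebra
    obtain ⟨T, hT⟩ := (show Algebra.FiniteType Γ(D.obj i, V) Γ(X₀, W) from hθ).out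
    refine ⟨T, fun R hA hTR => eq_top_iff.mpr fun b _ => ?_⟩
    let R' : Subalgebra Γ(D.obj i, V) Γ(X₀, W) := { R with algebraMap_mem' := hA }
    have : Algebra.adjoin Γ(D.obj i, V) (T : Set Γ(X₀, W)) ≤ R' := Algebra.adjoin_le hTR
    exact this (hT.ge Algebra.mem_top)
  choose kt bt hbt using fun t : T => LimLib.exists_residueFieldMap_eq hc s (χ t.1)
  obtain ⟨k, hk⟩ := IsCofiltered.inf_objs_exists (insert i (T.attach.image kt))
  obtain ⟨ψ⟩ := hk (Finset.mem_insert_self i _)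
  let ρ := (c.π.app k).residueFieldMap s
  let y : Spec ((D.obj k).residueField (c.π.app k s)) ⟶ D.obj i :=
    (D.obj k).fromSpecResidueField (c.π.app k s) ≫ D.map ψ
  have hyr : Set.range y ⊆ Set.range hV.fromSpec := by
    rintro _ ⟨a, rfl⟩
    rw [hV.range_fromSpec, Scheme.Hom.comp_apply, Scheme.fromSpecResidueField_apply,
      ← Scheme.Hom.comp_apply, c.w, ← hp]
    exact hpV
  let ev := Spec.preimage (IsOpenImmersion.lift hV.fromSpec y hyr)
  have hev : Spec.map ev ≫ hV.fromSpec = y := by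
    rw [Spec.map_preimage, IsOpenImmersion.lift_fac]
  have hcomp : θ ≫ χ = ev ≫ ρ := by
    apply Spec.map_injective
    rw [← cancel_mono hV.fromSpec, Spec.map_comp, Spec.map_comp, Category.assoc, Category.assoc,
      hV.SpecMap_appLE_fromSpec f₀ hW hWV, reassoc_of% hχ, hev, hx]
    simp only [y, ρ, Scheme.Hom.SpecMap_residueFieldMap_fromSpecResidueField_assoc, c.w]
    rfl
  have hrange : ρ.hom.range.comap χ.hom = ⊤ := by
    refine hT _ (fun a => ⟨ev a, (congr($(hcomp) a)).symm⟩) fun t ht => ?_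
    obtain ⟨g⟩ := hk (Finset.mem_insert_of_mem
      (Finset.mem_image_of_mem kt (Finset.mem_attach T ⟨t, ht⟩)))
    exact range_residueFieldMap_mono (c.π.app k) (D.map g) _ (c.w g) s ⟨_, hbt ⟨t, ht⟩⟩
  have hmem : ∀ b, χ b ∈ ρ.hom.range := fun b => (hrange.ge trivial : b ∈ _)
  let e := RingEquiv.ofBijective ρ.hom.rangeRestrict
    ⟨fun a b h => ρ.hom.injective (congrArg Subtype.val h), ρ.hom.rangeRestrict_surjective⟩
  let χk : Γ(X₀, W) ⟶ (D.obj k).residueField (c.π.app k s) :=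
    CommRingCat.ofHom (e.symm.toRingHom.comp (χ.hom.codRestrict ρ.hom.range hmem))
  have hχk : ∀ b, ρ (χk b) = χ b := fun b =>
    congrArg Subtype.val (e.apply_symm_apply ⟨χ b, hmem b⟩)
  have hk' : θ ≫ χk = ev := by
    ext a
    exact ρ.hom.injective ((hχk (θ a)).trans (congr($(hcomp) a)))
  refine ⟨k, ψ, Spec.map χk ≫ hW.fromSpec, ?_⟩
  rw [Category.assoc, ← hV.SpecMap_appLE_fromSpec f₀ hW hWV, ← Spec.map_comp_assoc]
  exact (congrArg (fun h => Spec.map h ≫ hV.fromSpec) hk').trans hev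

/-- The points over which a base change has a rational point form an ind-constructible set. -/
theorem isIndConstructible_good [QuasiSeparatedSpace Y] {S X₀ : Scheme.{u}} (b : Y ⟶ S)
    (f₀ : X₀ ⟶ S) [LocallyOfFinitePresentation f₀] :
    ProCons.IsIndConstructible {y : Y | ∃ x : Spec (Y.residueField y) ⟶ X₀,
      x ≫ f₀ = Y.fromSpecResidueField y ≫ b} := by
  intro _
  let g := pullback.snd f₀ b
  have hex : ∀ y : Y, (∃ x : Spec (Y.residueField y) ⟶ X₀,
      x ≫ f₀ = Y.fromSpecResidueField y ≫ b) → ∃ C : Set Y, IsConstructible C ∧ y ∈ C ∧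
        ∀ y' ∈ C, ∃ x : Spec (Y.residueField y') ⟶ X₀,
          x ≫ f₀ = Y.fromSpecResidueField y' ≫ b := by
    rintro y ⟨x, hx⟩
    obtain ⟨Z, z, σ, hσ, himm, -, -, -, hcons, hy⟩ := Wt.SectionStrat.exists_stratum g y
      (exists_bijective_of_section g y (pullback.lift x (Y.fromSpecResidueField y) hx)
        (pullback.lift_snd _ _ _))
    refine ⟨_, hcons, hy, ?_⟩
    rintro _ ⟨w, rfl⟩
    obtain ⟨x', hx'⟩ := exists_section_of_bijective z w (residueFieldMap_bijective_of_isPreimmersion z w)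
    refine ⟨x' ≫ σ ≫ pullback.fst f₀ b, ?_⟩
    simp only [Category.assoc]
    rw [pullback.condition, ← Category.assoc σ, hσ, reassoc_of% hx']
  choose C hC hyC hCs using hex
  refine ⟨Set.univ, isOpen_univ, trivial,
    Set.range fun p : {y : Y | ∃ x : Spec (Y.residueField y) ⟶ X₀,
      x ≫ f₀ = Y.fromSpecResidueField y ≫ b} => Subtype.val ⁻¹' C p.1 p.2, ?_, ?_⟩
  · rintro _ ⟨p, rfl⟩
    exact (hC p.1 p.2).isLocallyConstructible.preimage_of_isOpenEmbedding isOpen_univ.isOpenEmbedding_subtypeVal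
  · ext ⟨y, hy⟩
    constructor
    · exact fun h => ⟨_, ⟨⟨y, h⟩, rfl⟩, hyC y h⟩
    · rintro ⟨_, ⟨p, rfl⟩, h⟩
      exact hCs p.1 p.2 y h

/-- If every point of the limit has a rational point in `X₀`, so does every point of a stage. -/
theorem exists_stage_sections (hc : IsLimit c) {i : I} [CompactSpace (D.obj i)]
    [QuasiSeparatedSpace (D.obj i)] {X₀ : Scheme.{u}} (f₀ : X₀ ⟶ D.obj i)
    [LocallyOfFinitePresentation f₀]
    (h : ∀ s : c.pt, ∃ x : Spec (c.pt.residueField s) ⟶ X₀,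
      x ≫ f₀ = c.pt.fromSpecResidueField s ≫ c.π.app i) :
    ∃ (j : I) (φ : j ⟶ i), ∀ y : D.obj j, ∃ x : Spec ((D.obj j).residueField y) ⟶ X₀,
      x ≫ f₀ = (D.obj j).fromSpecResidueField y ≫ D.map φ := by
  obtain ⟨j, φ, hj⟩ := LimTop.exists_subset hc (i₀ := i) (fun _ _ => Set.univ)
    (fun j φ => {y : D.obj j | ∃ x : Spec ((D.obj j).residueField y) ⟶ X₀,
      x ≫ f₀ = (D.obj j).fromSpecResidueField y ≫ D.map φ})
    (fun _ _ => LimTop.isProConstructible_of_isLocallyConstructible .univ)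
    (fun j φ => by
      have : QuasiSeparatedSpace (D.obj j) := quasiSeparatedSpace_of_quasiSeparated (D.map φ)
      exact isIndConstructible_good (D.map φ) f₀)
    (fun _ _ _ _ => Set.subset_univ _)
    (fun j k ψ φ y ⟨x, hx⟩ => ⟨Spec.map ((D.map ψ).residueFieldMap y) ≫ x, by
      rw [Category.assoc, hx, Scheme.Hom.SpecMap_residueFieldMap_fromSpecResidueField_assoc,
        ← D.map_comp]⟩)
    fun s _ => by
      obtain ⟨x, hx⟩ := h s
      obtain ⟨k, ψ, xk, hxk⟩ := exists_stage_point hc f₀ s x hx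
      exact ⟨k, ψ, xk, hxk⟩
  exact ⟨j, φ, fun y => hj (Set.mem_univ y)⟩

end Groth.Agent.CDLim
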